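import Groth.Agent.Hopf.Unipotent
import Groth.Agent.Hopf.FreeOrbit
import Mathlib.RingTheory.HopfAlgebra.Convolution
import Mathlib.RingTheory.Ideal.GoingUp
import Mathlib.RingTheory.Spectrum.Prime.Topology

/-!
# Orbits of a unipotent affine group on an affine scheme are closed (Kostant–Rosenlicht), in general
-/

set_option autoImplicit false
set_option linter.unusedSectionVars false

universe u

open TensorProduct WithConv

noncomputable section

namespace Groth.Misc1.UnipOrbit

open Groth.ComodLib

variable {k : Type u} [Field k] {H : Type u} [CommRing H] [HopfAlgebra k H]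

/-- a nonzero subcomodule of the regular comodule of a unipotent group contains the constants -/
theorem one_mem_of_ne_bot (hU : HopfRep.IsUnipotent k H) {M : Submodule k H}
    (hM : ∀ (φ : H →ₗ[k] k), ∀ x ∈ M, op φ x ∈ M) (hne : M ≠ ⊥) : (1 : H) ∈ M := by
  classical
  obtain ⟨a₀, ha₀, ha₀'⟩ := (Submodule.ne_bot_iff M).1 hne
  have hex : ∃ n, ∃ a ∈ M, a ∈ fixSeries k H H n ∧ a ≠ 0 :=
    ⟨_, a₀, ha₀, (exists_mem_fixSeries hU a₀).choose_spec, ha₀'⟩
  obtain ⟨a, haM, hafix, ha0⟩ := Nat.find_spec hex
  cases hn : Nat.find hex with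
  | zero =>
    rw [hn] at hafix
    exact absurd ((Submodule.mem_bot k).1 hafix) ha0
  | succ n =>
    rw [hn] at hafix
    have h1 : a ∈ fixSeries k H H 1 := mem_fixSeries_succ.2 fun φ => (Submodule.mem_bot k).2 (by
      by_contra hb
      exact Nat.find_min hex (show n < Nat.find hex by omega)
        ⟨_, hM _ a haM, mem_fixSeries_succ.1 hafix φ, hb⟩)
    rw [fixSeries_regular_one, Submodule.mem_span_singleton] at h1
    obtain ⟨c, rfl⟩ := h1
    have hc : c ≠ 0 := fun h => ha0 (by rw [h, zero_smul])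
    simpa [smul_smul, inv_mul_cancel₀ hc] using M.smul_mem c⁻¹ haM

variable {A : Type u} [CommRing A] [Algebra k A] [HopfRep.Comod k H A] [GLin.IsCoactAlg k H A]

/-- the orbit morphism of a point with values in `K` -/
def orbitHomK {K : Type u} [CommRing K] [Algebra k K] (z : A →ₐ[k] K) : A →ₐ[k] K ⊗[k] H :=
  (Algebra.TensorProduct.map z (AlgHom.id k H)).comp (GLin.coactAlgHom k H A)

theorem slice_orbitHomK {K : Type u} [CommRing K] [Algebra k K] (z : A →ₐ[k] K) (φ : H →ₗ[k] k) (f : A) :
    slice φ (orbitHomK z f) = z (op φ f) := by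
  change slice φ (Algebra.TensorProduct.map z (AlgHom.id k H) (HopfRep.Comod.coact (k := k) (A := H) f)) = _
  rw [op_apply]
  induction HopfRep.Comod.coact (k := k) (A := H) f using TensorProduct.induction_on with
  | zero => simp
  | tmul a b => simp
  | add a b ha hb => simp only [map_add, ha, hb]

theorem orbitHomK_eq_zero {K : Type u} [CommRing K] [Algebra k K] (z : A →ₐ[k] K) (f : A) :
    orbitHomK (H := H) z f = 0 ↔ ∀ φ : H →ₗ[k] k, z (op φ f) = 0 := by
  refine ⟨fun h φ => by rw [← slice_orbitHomK, h, map_zero], fun h => ?_⟩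
  obtain ⟨y, hy⟩ := (mem_range_rTensor_iff (A := H) (⊥ : Submodule k K) (orbitHomK (H := H) z f)).2 fun φ => by
    rw [slice_orbitHomK, h, Submodule.mem_bot]
  rw [← hy, show (⊥ : Submodule k K).subtype = 0 from LinearMap.ext fun v => (Submodule.mem_bot k).1 v.2,
    LinearMap.rTensor_zero, LinearMap.zero_apply]

/-- over a point of the orbit closure, the orbit has the same closure -/
theorem ker_orbitHomK (hU : HopfRep.IsUnipotent k H) (x : A →ₐ[k] k) {K : Type u} [Field K] [Algebra k K]
    (z : A →ₐ[k] K) (hz : RingHom.ker (GLin.orbitHom k H x) ≤ RingHom.ker z) :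
    RingHom.ker (orbitHomK (H := H) z) = RingHom.ker (GLin.orbitHom k H x) := by
  have hop : ∀ (φ : H →ₗ[k] k) f, GLin.orbitHom k H x (op φ f) = op (V := H) φ (GLin.orbitHom k H x f) :=
    fun φ f => isComodHom_op (isComodHom_orbitHom x) φ f
  have h1 : RingHom.ker (GLin.orbitHom k H x) ≤ RingHom.ker (orbitHomK (H := H) z) := fun f hf => by
    refine RingHom.mem_ker.2 ((orbitHomK_eq_zero z f).2 fun φ => RingHom.mem_ker.1 (hz (RingHom.mem_ker.2 ?_)))
    rw [hop, RingHom.mem_ker.1 hf, map_zero]
  refine le_antisymm ?_ h1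
  let M : Submodule k H := (LinearMap.ker (orbitHomK (H := H) z).toLinearMap).map (GLin.orbitHom k H x).toLinearMap
  have hM : ∀ (φ : H →ₗ[k] k), ∀ a ∈ M, op φ a ∈ M := by
    rintro φ _ ⟨f, hf, rfl⟩
    refine ⟨op φ f, LinearMap.mem_ker.2 ((orbitHomK_eq_zero z _).2 fun ψ => ?_), hop φ f⟩
    rw [← show op (toConv ψ * toConv φ).ofConv f = op ψ (op φ f) from op_mul (toConv ψ) (toConv φ) f]
    exact (orbitHomK_eq_zero z f).1 (LinearMap.mem_ker.1 hf) _
  have hbot : M = ⊥ := by
    by_contra hne
    obtain ⟨f, hf, hf1⟩ := one_mem_of_ne_bot hU hM hne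
    have e : f - 1 ∈ RingHom.ker (orbitHomK (H := H) z) := h1 (by
      rw [RingHom.mem_ker, map_sub, map_one, sub_eq_zero]
      exact hf1)
    rw [RingHom.mem_ker, map_sub, map_one, show orbitHomK z f = 0 from hf, zero_sub, neg_eq_zero] at e
    have := congrArg (fun t => slice (Coalgebra.counit (R := k) (A := H)) t) e
    simp [Algebra.TensorProduct.one_def] at this
  intro f hf
  exact RingHom.mem_ker.2 ((Submodule.mem_bot k).1 (hbot ▸ ⟨f, LinearMap.mem_ker.2 hf, rfl⟩))

section Translate

variable {L : Type u} [CommRing L] [Algebra k L] (z : A →ₐ[k] L)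

/-- pairing with a functional through the coaction -/
def actF : (H →ₗ[k] L) →ₗ[k] (A →ₗ[k] L) where
  toFun φ := LinearMap.mul' k L ∘ₗ TensorProduct.map z.toLinearMap φ ∘ₗ HopfRep.Comod.coact (k := k) (A := H)
  map_add' φ ψ := by simp [TensorProduct.map_add_right, LinearMap.add_comp, LinearMap.comp_add]
  map_smul' c φ := by simp [TensorProduct.map_smul_right, LinearMap.smul_comp, LinearMap.comp_smul]

theorem actF_conv (φ ψ : WithConv (H →ₗ[k] L)) (f : A) :
    actF z (φ * ψ).ofConv f = LinearMap.mul' k L (TensorProduct.map (actF z φ.ofConv) ψ.ofConv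
      (HopfRep.Comod.coact (k := k) (A := H) f)) := by
  have e := LinearMap.congr_fun (HopfRep.Comod.coassoc (k := k) (A := H) (V := A)) f
  simp only [LinearMap.comp_apply, LinearEquiv.coe_coe] at e
  let T : A ⊗[k] (H ⊗[k] H) →ₗ[k] L :=
    LinearMap.mul' k L ∘ₗ TensorProduct.map z.toLinearMap (LinearMap.mul' k L ∘ₗ TensorProduct.map φ.ofConv ψ.ofConv)
  have e' := congrArg T e
  have hl : ∀ w : A ⊗[k] H, T ((Coalgebra.comul (R := k) (A := H)).lTensor A w) =
      LinearMap.mul' k L (TensorProduct.map z.toLinearMap (φ * ψ).ofConv w) := fun w => by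
    induction w using TensorProduct.induction_on with
    | zero => simp
    | tmul a b => simp [T]
    | add a b ha hb => simp only [map_add, ha, hb]
  have hr : ∀ w : A ⊗[k] H, T (TensorProduct.assoc k A H H ((HopfRep.Comod.coact (k := k) (A := H)).rTensor H w)) =
      LinearMap.mul' k L (TensorProduct.map (actF z φ.ofConv) ψ.ofConv w) := fun w => by
    induction w using TensorProduct.induction_on with
    | zero => simp
    | add a b ha hb => simp only [map_add, ha, hb]
    | tmul a b =>
      simp only [LinearMap.rTensor_tmul, TensorProduct.map_tmul, LinearMap.mul'_apply, actF, LinearMap.coe_mk,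
        AddHom.coe_mk, LinearMap.comp_apply]
      induction HopfRep.Comod.coact (k := k) (A := H) a using TensorProduct.induction_on with
      | zero => simp
      | tmul c d => simp [T, mul_assoc]
      | add c d hc hd => simp only [map_add, TensorProduct.add_tmul, hc, hd, add_mul]
  rw [hl, hr] at e'
  exact e'.symm

theorem actF_one (f : A) : actF z (1 : WithConv (H →ₗ[k] L)).ofConv f = z f := by
  have e := LinearMap.congr_fun (HopfRep.Comod.counit_comp (k := k) (A := H) (V := A)) f
  have e' := congrArg (fun w => LinearMap.mul' k L (TensorProduct.map z.toLinearMap (Algebra.linearMap k L) w)) e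
  simp only [LinearMap.comp_apply] at e'
  have hl : ∀ w : A ⊗[k] H, LinearMap.mul' k L (TensorProduct.map z.toLinearMap (Algebra.linearMap k L)
      ((Coalgebra.counit (R := k) (A := H)).lTensor A w)) =
      LinearMap.mul' k L (TensorProduct.map z.toLinearMap (1 : WithConv (H →ₗ[k] L)).ofConv w) := fun w => by
    induction w using TensorProduct.induction_on with
    | zero => simp
    | tmul a b => simp
    | add a b ha hb => simp only [map_add, ha, hb]
  rw [hl] at e'
  simpa [actF] using e'

/-- points of the orbit of `z` and of `x` -/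
theorem translate {u : H →ₐ[k] L} {h : H →ₐ[k] L} (x : A →ₐ[k] k)
    (he : ∀ f, u (GLin.orbitHom k H x f) = actF z h.toLinearMap f) (f : A) :
    z f = (toConv u * toConv (h.comp (HopfAlgebra.antipodeAlgHom k H)) : WithConv (H →ₐ[k] L)).ofConv
      (GLin.orbitHom k H x f) := by
  set hS := h.comp (HopfAlgebra.antipodeAlgHom k H) with hSdef
  rw [show (toConv u * toConv hS : WithConv (H →ₐ[k] L)).ofConv (GLin.orbitHom k H x f) =
    LinearMap.mul' k L (TensorProduct.map u.toLinearMap hS.toLinearMap
      (Coalgebra.comul (R := k) (GLin.orbitHom k H x f))) from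
    LinearMap.congr_fun (toConv_injective (AlgHom.toLinearMap_convMul (toConv u) (toConv hS))) _]
  have hc := LinearMap.congr_fun (isComodHom_orbitHom (A := H) x) f
  simp only [LinearMap.comp_apply, AlgHom.toLinearMap_apply] at hc
  rw [show Coalgebra.comul (R := k) (GLin.orbitHom k H x f) = _ from hc]
  have h2 : ∀ w : A ⊗[k] H, LinearMap.mul' k L (TensorProduct.map u.toLinearMap hS.toLinearMap
      ((GLin.orbitHom k H x).toLinearMap.rTensor H w)) =
      LinearMap.mul' k L (TensorProduct.map (actF z h.toLinearMap) hS.toLinearMap w) := fun w => by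
    induction w using TensorProduct.induction_on with
    | zero => simp
    | tmul a b => simp [he]
    | add a b ha hb => simp only [map_add, ha, hb]
  rw [h2, ← actF_conv z (toConv h.toLinearMap) (toConv hS.toLinearMap), ← actF_one (H := H) z f]
  congr 3
  have e1 := LinearMap.id_mul_antipode (R := k) (C := H)
  refine Eq.symm ?_
  apply WithConv.ofConv_injective
  ext c
  have e2 := congrArg (fun F : WithConv (H →ₗ[k] H) => h (F.ofConv c)) e1
  simp only [LinearMap.convMul_apply, LinearMap.convOne_apply, AlgHom.commutes] at e2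
  rw [LinearMap.convMul_apply, LinearMap.convOne_apply, ← e2]
  induction Coalgebra.comul (R := k) c using TensorProduct.induction_on with
  | zero => simp
  | tmul a b => simp [hSdef]
  | add a b ha hb => simp only [map_add, ha, hb]

end Translate

/-- two points over the same point meet in a field -/
theorem exists_common {A B C : Type u} [CommRing A] [CommRing B] [CommRing C] (f : A →+* B) (g : A →+* C)
    (P : Ideal A) [P.IsPrime] (Q : Ideal B) [Q.IsPrime] (T : Ideal C) [T.IsPrime] (hQ : Q.comap f = P)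
    (hT : T.comap g = P) :
    ∃ (L : Type u) (_ : Field L) (u : B →+* L) (v : C →+* L), ∀ a, u (f a) = v (g a) := by
  let E₁ := FractionRing (B ⧸ Q)
  let E₂ := FractionRing (C ⧸ T)
  let F := FractionRing (A ⧸ P)
  let j₁ : A ⧸ P →+* E₁ := (algebraMap (B ⧸ Q) E₁).comp (Ideal.quotientMap Q f hQ.ge)
  let j₂ : A ⧸ P →+* E₂ := (algebraMap (C ⧸ T) E₂).comp (Ideal.quotientMap T g hT.ge)
  have hj₁ : Function.Injective j₁ :=
    (IsFractionRing.injective (B ⧸ Q) E₁).comp (Ideal.quotientMap_injective' (H := hQ.ge) hQ.le)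
  have hj₂ : Function.Injective j₂ :=
    (IsFractionRing.injective (C ⧸ T) E₂).comp (Ideal.quotientMap_injective' (H := hT.ge) hT.le)
  letI : Algebra F E₁ := (IsFractionRing.lift (K := F) hj₁).toAlgebra
  letI : Algebra F E₂ := (IsFractionRing.lift (K := F) hj₂).toAlgebra
  obtain ⟨m, hm⟩ := Ideal.exists_maximal (E₁ ⊗[F] E₂)
  let π : E₁ ⊗[F] E₂ →+* (E₁ ⊗[F] E₂) ⧸ m := Ideal.Quotient.mk m
  refine ⟨(E₁ ⊗[F] E₂) ⧸ m, Ideal.Quotient.field m,
    ((π.comp (Algebra.TensorProduct.includeLeft : E₁ →ₐ[F] E₁ ⊗[F] E₂).toRingHom).comp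
      (algebraMap (B ⧸ Q) E₁)).comp (Ideal.Quotient.mk Q),
    ((π.comp (Algebra.TensorProduct.includeRight : E₂ →ₐ[F] E₁ ⊗[F] E₂).toRingHom).comp
      (algebraMap (C ⧸ T) E₂)).comp (Ideal.Quotient.mk T), fun a => ?_⟩
  have h1 : algebraMap F E₁ (algebraMap _ F (Ideal.Quotient.mk P a)) =
      algebraMap (B ⧸ Q) E₁ (Ideal.Quotient.mk Q (f a)) := IsFractionRing.lift_algebraMap hj₁ _
  have h2 : algebraMap F E₂ (algebraMap _ F (Ideal.Quotient.mk P a)) =
      algebraMap (C ⧸ T) E₂ (Ideal.Quotient.mk T (g a)) := IsFractionRing.lift_algebraMap hj₂ _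
  change π (algebraMap (B ⧸ Q) E₁ (Ideal.Quotient.mk Q (f a)) ⊗ₜ[F] (1 : E₂)) =
    π ((1 : E₁) ⊗ₜ[F] algebraMap (C ⧸ T) E₂ (Ideal.Quotient.mk T (g a)))
  rw [← h1, ← h2, Algebra.algebraMap_eq_smul_one, Algebra.algebraMap_eq_smul_one (A := E₂),
    TensorProduct.smul_tmul]

/-- **Kostant–Rosenlicht**: orbits of rational points under a unipotent affine group are closed -/
theorem isClosedOrbit (hU : HopfRep.IsUnipotent k H) (x : A →ₐ[k] k) : GLin.IsClosedOrbit k H x := by
  let o := GLin.orbitHom k H x
  have hcl : Set.range (PrimeSpectrum.comap o.toRingHom) = PrimeSpectrum.zeroLocus (RingHom.ker o : Set A) := by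
    refine Set.Subset.antisymm ?_ fun P hP => ?_
    · rintro _ ⟨Q, rfl⟩ f hf
      change o f ∈ Q.asIdeal
      rw [RingHom.mem_ker.1 hf]
      exact zero_mem _
    · let K := FractionRing (A ⧸ P.asIdeal)
      let z : A →ₐ[k] K := (IsScalarTower.toAlgHom k (A ⧸ P.asIdeal) K).comp (Ideal.Quotient.mkₐ k P.asIdeal)
      have hzker : ∀ f, z f = 0 ↔ f ∈ P.asIdeal := fun f => by
        change algebraMap (A ⧸ P.asIdeal) K (Ideal.Quotient.mk _ f) = 0 ↔ _
        rw [IsFractionRing.to_map_eq_zero_iff, Ideal.Quotient.eq_zero_iff_mem]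
      have hker := ker_orbitHomK hU x z fun f hf => RingHom.mem_ker.2 ((hzker f).2 (hP hf))
      obtain ⟨P₀, hP₀⟩ : Nonempty (RingHom.ker o).minimalPrimes :=
        Ideal.nonempty_minimalPrimes fun h => one_ne_zero (α := k) (by
          have := congrArg (Coalgebra.counit (R := k))
            ((map_one o).symm.trans (RingHom.mem_ker.1 ((Ideal.eq_top_iff_one _).1 h)))
          simpa using this)
      obtain ⟨Q, hQ, -, hQP⟩ := Ideal.exists_comap_eq_of_mem_minimalPrimes o.toRingHom (I := ⊥) P₀
        (by rw [← RingHom.ker_eq_comap_bot]; exact hP₀)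
      obtain ⟨T, hT, -, hTP⟩ := Ideal.exists_comap_eq_of_mem_minimalPrimes (orbitHomK (H := H) z).toRingHom
        (I := ⊥) P₀ (by rw [← RingHom.ker_eq_comap_bot]; exact hker.symm ▸ hP₀)
      haveI : P₀.IsPrime := hP₀.isPrime
      obtain ⟨L, _, g₁, g₂, hg'⟩ := exists_common o.toRingHom (orbitHomK (H := H) z).toRingHom P₀ Q T hQP hTP
      have hg : ∀ f, g₁ (o f) = g₂ (orbitHomK z f) := hg'
      letI : Algebra k L := (g₁.comp (algebraMap k H)).toAlgebra
      let u : H →ₐ[k] L := AlgHom.mk g₁ (fun c => rfl)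
      let τ : K ⊗[k] H →ₐ[k] L := AlgHom.mk g₂ (fun c => (congrArg g₂ ((orbitHomK (H := H) z).commutes c).symm).trans
        ((hg _).symm.trans (congrArg g₁ (o.commutes c))))
      let h : H →ₐ[k] L := τ.comp Algebra.TensorProduct.includeRight
      let w : A →ₐ[k] L := (τ.comp Algebra.TensorProduct.includeLeft).comp z
      have he : ∀ f, u (o f) = actF w h.toLinearMap f := fun f => by
        refine (hg f).trans ?_
        change τ (Algebra.TensorProduct.map z (AlgHom.id k H) (HopfRep.Comod.coact (k := k) (A := H) f)) =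
          LinearMap.mul' k L (TensorProduct.map w.toLinearMap h.toLinearMap (HopfRep.Comod.coact (k := k) (A := H) f))
        induction HopfRep.Comod.coact (k := k) (A := H) f using TensorProduct.induction_on with
        | zero => simp
        | tmul a b => simp [w, h, ← map_mul]
        | add a b ha hb => simp only [map_add, ha, hb]
      let γ := (toConv u * toConv (h.comp (HopfAlgebra.antipodeAlgHom k H)) : WithConv (H →ₐ[k] L)).ofConv
      refine ⟨⟨RingHom.ker γ, RingHom.ker_isPrime γ⟩, PrimeSpectrum.ext (Ideal.ext fun f => ?_)⟩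
      change γ (o f) = 0 ↔ f ∈ P.asIdeal
      rw [← translate w x he f, ← hzker]
      exact map_eq_zero_iff _ ((τ.comp (Algebra.TensorProduct.includeLeft (R := k) (A := K) (B := H))).toRingHom.injective)
  rw [GLin.IsClosedOrbit]
  rw [hcl]
  exact PrimeSpectrum.isClosed_zeroLocus _

end Groth.Misc1.UnipOrbit
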