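import Groth.Agent.Misc1.UnipOrbit.Basic
import Groth.Agent.Misc1.Unip.FG
import Groth.Agent.Misc12.AntipodeComul
import Groth.Prelude.Def_ComodSub

/-!
# Unipotent groups: `Spec H → Spec O` has closed image for coideal subalgebras
-/

set_option autoImplicit false
set_option linter.unusedSectionVars false

universe u

open TensorProduct WithConv

noncomputable section

namespace Groth.Misc1.UnipOrbit

open Groth.ComodLib

variable {k : Type u} [Field k] {H : Type u} [CommRing H] [HopfAlgebra k H]

/-- a right coideal subalgebra -/
theorem surjective_comap_val (hU : HopfRep.IsUnipotent k H) (O : Subalgebra k H)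
    (hO : HopfRep.IsSubcomod (k := k) (A := H) O.toSubmodule) :
    Function.Surjective (PrimeSpectrum.comap O.val.toRingHom) := by
  let c : HopfRep.Comod k H O.toSubmodule := ComodSub.Comod.restr (inferInstance : HopfRep.Comod k H H) _ hO
  letI cO : HopfRep.Comod k H O := c
  have hcoe : ∀ f : O, O.val.toLinearMap.rTensor H (cO.coact f) = Coalgebra.comul (R := k) (f : H) := fun f =>
    ComodSub.restr_coact_coe (inferInstance : HopfRep.Comod k H H) O.toSubmodule hO f
  have hinj : Function.Injective (O.val.toLinearMap.rTensor H) :=
    Module.Flat.rTensor_preserves_injective_linearMap _ Subtype.val_injective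
  have hmap : ∀ w, O.val.toLinearMap.rTensor H w = Algebra.TensorProduct.map O.val (AlgHom.id k H) w := fun w => by
    induction w using TensorProduct.induction_on with
    | zero => simp
    | tmul a b => simp
    | add a b ha hb => simp only [map_add, ha, hb]
  haveI : GLin.IsCoactAlg k H O :=
    { coact_one := hinj (by rw [hcoe, hmap, map_one]; simp)
      coact_mul := fun f g => hinj (by
        rw [hcoe, hmap (_ * _), map_mul (Algebra.TensorProduct.map O.val (AlgHom.id k H)), ← hmap, ← hmap]
        change Coalgebra.comul (R := k) ((f : H) * (g : H)) = _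
        rw [Bialgebra.comul_mul, ← hcoe f, ← hcoe g]) }
  let x : O →ₐ[k] k := (Bialgebra.counitAlgHom k H).comp O.val
  have ho : GLin.orbitHom k H x = O.val := AlgHom.ext fun f => by
    change (Algebra.TensorProduct.lid k H) (Algebra.TensorProduct.map x (AlgHom.id k H) (cO.coact f)) = (f : H)
    have e : ∀ w : O ⊗[k] H, (Algebra.TensorProduct.lid k H) (Algebra.TensorProduct.map x (AlgHom.id k H) w) =
        TensorProduct.lid k H ((Coalgebra.counit (R := k) (A := H)).rTensor H (O.val.toLinearMap.rTensor H w)) := fun w => by
      induction w using TensorProduct.induction_on with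
      | zero => simp
      | tmul a b => simp [x]
      | add a b ha hb => simp only [map_add, ha, hb]
    rw [e, hcoe, Coalgebra.rTensor_counit_comul]
    simp
  have hcl := isClosedOrbit hU x
  rw [GLin.IsClosedOrbit, ho] at hcl
  intro P
  have hd : closure (Set.range (PrimeSpectrum.comap O.val.toRingHom)) = Set.univ := by
    rw [PrimeSpectrum.closure_range_comap,
      show RingHom.ker O.val.toRingHom = ⊥ from (RingHom.injective_iff_ker_eq_bot _).1 Subtype.val_injective]
    simp
  have h : P ∈ Set.range (PrimeSpectrum.comap O.val.toRingHom) := by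
    rw [← hcl.closure_eq, hd]
    trivial
  exact h

/-- a morphism of rings whose image is a left coideal has closed image on spectra -/
theorem isClosed_range_comap_of_leftCoideal (hU : HopfRep.IsUnipotent k H) {R : Type u} [CommRing R] [Algebra k R]
    (o : R →ₐ[k] H)
    (ho : ∀ f, Coalgebra.comul (R := k) (o f) ∈ LinearMap.range (o.toLinearMap.lTensor H)) :
    IsClosed (Set.range (PrimeSpectrum.comap o.toRingHom)) := by
  let S := HopfAlgebra.antipodeAlgHom k H
  have hS : Function.Involutive S := fun a => Groth.Misc1.Unip.antipode_antipode a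
  let o' := S.comp o
  have hsub : HopfRep.IsSubcomod (k := k) (A := H) o'.range.toSubmodule := by
    rintro _ ⟨f, rfl⟩
    obtain ⟨w, hw⟩ := ho f
    change Coalgebra.comul (R := k) (HopfAlgebra.antipode k (o f)) ∈ _
    rw [Groth.Misc12.comul_antipode_eq, ← hw]
    clear hw
    induction w using TensorProduct.induction_on with
    | zero => simp
    | tmul a r => exact ⟨⟨o' r, r, rfl⟩ ⊗ₜ HopfAlgebra.antipode k a, by simp [o', S]⟩
    | add a b ha hb => simp only [map_add]; exact Submodule.add_mem _ ha hb
  have h1 := surjective_comap_val hU o'.range hsub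
  have hS' : Function.Surjective (PrimeSpectrum.comap S.toRingHom) := fun Q =>
    ⟨PrimeSpectrum.comap S.toRingHom Q, PrimeSpectrum.ext (Ideal.ext fun a => by
      change S (S a) ∈ Q.asIdeal ↔ a ∈ Q.asIdeal
      rw [hS a])⟩
  have e : Set.range (PrimeSpectrum.comap o.toRingHom) =
      Set.range (PrimeSpectrum.comap o'.rangeRestrict.toRingHom) := by
    rw [← hS'.range_comp (PrimeSpectrum.comap o.toRingHom)]
    rw [← h1.range_comp (PrimeSpectrum.comap o'.rangeRestrict.toRingHom)]
    rfl
  rw [e]
  exact (PrimeSpectrum.isClosedEmbedding_comap_of_surjective _ o'.rangeRestrict.toRingHom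
    o'.rangeRestrict_surjective).isClosed_range

end Groth.Misc1.UnipOrbit
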